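import Mathlib.Algebra.CharP.Lemmas
import Mathlib.Tactic.Abel
import Mathlib.Tactic.Group
import Mathlib.Algebra.Ring.Equiv
import Mathlib.GroupTheory.PGroup
import Mathlib.GroupTheory.QuotientGroup.Basic
import Mathlib.GroupTheory.Index

/-!
# Fixed points of an automorphism of prime order on sections

`card_fixed_image_le`: a quotient has no more fixed points than the group.
`card_le_of_fixed`: an abelian group of exponent `p ^ E` with an automorphism of order `p` with few
fixed points is small.
-/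

set_option autoImplicit false

namespace CfsgLib.AlperinBound

/-- A set of cosets fixed by `f` is no larger than the set of fixed points of `f`. -/
theorem card_fixed_image_le {G : Type*} [Group G] [Finite G] (f : G →* G) (N : Subgroup G)
    [N.Normal] (F : Set (G ⧸ N))
    (hF : ∀ x : G, (x : G ⧸ N) ∈ F → ((f x : G) : G ⧸ N) = (x : G ⧸ N)) :
    Nat.card F ≤ Nat.card {g : G // f g = g} := by
  classical
  let S : Set G := QuotientGroup.mk ⁻¹' F
  have hS : Nat.card S = Nat.card N * Nat.card F := by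
    rw [Nat.card_congr (QuotientGroup.preimageMkEquivSubgroupProdSet N F), Nat.card_prod]
  have hmem : ∀ x : S, (x : G)⁻¹ * f x ∈ N := fun x => QuotientGroup.eq.1 (hF x x.2).symm
  let d : S → N := fun x => ⟨(x : G)⁻¹ * f x, hmem x⟩
  let r : Set.range d → S := fun u => u.2.choose
  have hr : ∀ u, d (r u) = u.1 := fun u => u.2.choose_spec
  let τ : S → N × {g : G // f g = g} := fun x => (d x,
    ⟨(x : G) * (r ⟨d x, x, rfl⟩ : G)⁻¹, by
      have h : (r ⟨d x, x, rfl⟩ : G)⁻¹ * f (r ⟨d x, x, rfl⟩) = (x : G)⁻¹ * f x :=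
        congrArg Subtype.val (hr ⟨d x, x, rfl⟩)
      rw [inv_mul_eq_iff_eq_mul] at h
      rw [map_mul, map_inv, h]
      group⟩)
  have hinj : Function.Injective τ := by
    intro x y h
    simp only [τ, Prod.mk.injEq, Subtype.mk.injEq] at h
    obtain ⟨h1, h2⟩ := h
    rw [show (⟨d x, x, rfl⟩ : Set.range d) = ⟨d y, y, rfl⟩ from Subtype.ext h1] at h2
    exact Subtype.ext (mul_right_cancel h2)
  have h := Nat.card_le_card_of_injective τ hinj
  rw [Nat.card_prod, hS] at h
  exact Nat.le_of_mul_le_mul_left h Nat.card_pos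

variable {A : Type*} [AddCommGroup A] [Finite A] {p : ℕ}

theorem nsmul_eq_zero_of_card_le [Fact p.Prime] {n : ℕ} (hA : IsPGroup p (Multiplicative A))
    (F : AddSubgroup A) (hF : Nat.card F ≤ p ^ n) {a : A} (ha : a ∈ F) : p ^ n • a = 0 := by
  obtain ⟨k, hk⟩ := (hA.to_subgroup (AddSubgroup.toSubgroup F)).exists_card_eq
  have hk' : Nat.card F = p ^ k := hk
  have hle : k ≤ n := (Nat.pow_le_pow_iff_right (Fact.out : p.Prime).one_lt).1 (hk' ▸ hF)
  have h : addOrderOf a ∣ p ^ n := by
    have h1 : addOrderOf (⟨a, ha⟩ : F) ∣ Nat.card F := addOrderOf_dvd_natCard _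
    rw [AddSubgroup.addOrderOf_mk, hk'] at h1
    exact h1.trans (pow_dvd_pow p hle)
  exact addOrderOf_dvd_iff_nsmul_eq_zero.1 h

theorem card_ker_pow_le (φ : AddMonoid.End A) (k : ℕ) :
    Nat.card {a : A // (φ ^ k) a = 0} ≤ Nat.card {a : A // φ a = 0} ^ k := by
  induction k with
  | zero =>
    have : Subsingleton {a : A // (φ ^ 0) a = 0} :=
      ⟨fun a b => Subtype.ext (show (a : A) = b from
        (show (a : A) = 0 from a.2).trans (show (b : A) = 0 from b.2).symm)⟩
    simpa using Finite.card_le_one_iff_subsingleton.2 inferInstance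
  | succ k ih =>
    classical
    let S := {a : A // (φ ^ (k + 1)) a = 0}
    let d : S → {a : A // (φ ^ k) a = 0} := fun a => ⟨φ a, by
      show ((φ ^ k) * φ) (a : A) = 0
      exact (congrArg (fun ψ : AddMonoid.End A => ψ (a : A)) (pow_succ φ k)).symm.trans a.2⟩
    let r : Set.range d → S := fun u => u.2.choose
    have hr : ∀ u, d (r u) = u.1 := fun u => u.2.choose_spec
    let τ : S → {a : A // φ a = 0} × {a : A // (φ ^ k) a = 0} := fun a =>
      (⟨(a : A) - (r ⟨d a, a, rfl⟩ : A), by
        have h : φ (r ⟨d a, a, rfl⟩ : A) = φ (a : A) := congrArg Subtype.val (hr ⟨d a, a, rfl⟩)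
        rw [map_sub, h, sub_self]⟩, d a)
    have hinj : Function.Injective τ := by
      intro x y h
      simp only [τ, Prod.mk.injEq, Subtype.mk.injEq] at h
      obtain ⟨h1, h2⟩ := h
      rw [show (⟨d x, x, rfl⟩ : Set.range d) = ⟨d y, y, rfl⟩ from Subtype.ext h2] at h1
      exact Subtype.ext (sub_left_inj.1 h1)
    refine (Nat.card_le_card_of_injective τ hinj).trans ?_
    rw [Nat.card_prod, pow_succ', ← pow_succ']
    calc Nat.card {a : A // φ a = 0} * Nat.card {a : A // (φ ^ k) a = 0}
        ≤ Nat.card {a : A // φ a = 0} * Nat.card {a : A // φ a = 0} ^ k :=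
          Nat.mul_le_mul_left _ ih
      _ = _ := (pow_succ' _ _).symm

/-- An automorphism of order `p` of an abelian group of exponent dividing `p ^ E`. -/
theorem card_le_of_fixed [Fact p.Prime] {E N : ℕ} (f : AddMonoid.End A) (hf : f ^ p = 1)
    (hexp : ∀ a : A, p ^ E • a = 0) (hfix : Nat.card {a : A // f a = a} ≤ N) :
    Nat.card A ≤ N ^ (p * E) := by
  set φ : AddMonoid.End A := f - 1 with hφ
  obtain ⟨r, hr⟩ := (Commute.one_right φ).exists_add_pow_prime_eq (Fact.out : p.Prime)
  rw [show φ + 1 = f from sub_add_cancel f 1, hf, one_pow] at hr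
  have h1 : φ ^ p = (p : AddMonoid.End A) * -(φ * 1 * r) := by
    rw [mul_neg, eq_neg_iff_add_eq_zero]
    have h2 : φ ^ p + (p : AddMonoid.End A) * (φ * 1 * r) + 1 = 1 := by
      conv_rhs => rw [hr]
      simp only [mul_assoc]
      abel
    exact add_right_cancel (h2.trans (zero_add 1).symm)
  have hzero : φ ^ (p * E) = 0 := by
    rw [pow_mul, h1, (Nat.cast_commute p _).mul_pow, ← Nat.cast_pow]
    ext a
    show ((p ^ E : ℕ) : AddMonoid.End A) _ = 0
    rw [AddMonoid.End.natCast_apply]
    exact hexp _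
  have hk : ∀ a : A, φ a = 0 ↔ f a = a := fun a => sub_eq_zero
  refine le_trans ?_ ((card_ker_pow_le φ (p * E)).trans (Nat.pow_le_pow_left ?_ _))
  · refine Nat.card_le_card_of_injective (fun a => ⟨a, by rw [hzero]; rfl⟩) fun a b h => ?_
    exact congrArg Subtype.val h
  · rwa [Nat.card_congr (Equiv.subtypeEquivRight hk)]

end CfsgLib.AlperinBound
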