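import Cfsg.Agent.AlperinBound.Fixed
import Cfsg.Agent.FpfClass.Bound

/-!
# A lower central factor of a `p`-group with an almost fixed-point-free automorphism of order `p`

If `α` of order `p` has at most `p ^ n` fixed points on the `p`-group `G`, the factor `γ m / γ (m+1)`,
`m` the Higman bound, has exponent and hence order bounded in terms of `p` and `n`.
-/

set_option autoImplicit false

open scoped TensorProduct commutatorElement

namespace CfsgLib.AlperinBound

open CfsgLib.FpfClass

variable {G : Type*} [Group G] [Finite G] {p : ℕ} [Fact p.Prime]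

/-- The Higman bound. -/
def classBound (p : ℕ) : ℕ := Finset.sum (Finset.range (2 ^ (p - 1) - 1)) fun i => (p - 1) ^ i

theorem grMap_of (α : MulAut G) (i : ℕ) (x : gam G i) :
    grMap α (DirectSum.of (fun i => Sect G i) i (Additive.ofMul
        (QuotientGroup.mk x : ↥(gam G i) ⧸ (gam G (i + 1)).subgroupOf (gam G i)))) =
      DirectSum.of (fun i => Sect G i) i (Additive.ofMul
        (QuotientGroup.mk (⟨α x, map_mem_gam α x.2⟩ : gam G i) :
          ↥(gam G i) ⧸ (gam G (i + 1)).subgroupOf (gam G i))) := by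
  have h := grMap_cl α i x.2
  rw [cl, cl, dif_pos x.2, dif_pos (map_mem_gam α x.2)] at h
  exact h

theorem isPGroup_sect (hG : IsPGroup p G) (i : ℕ) : IsPGroup p (Multiplicative (Sect G i)) :=
  fun x => by
    obtain ⟨k, hk⟩ := ((hG.to_subgroup (gam G i)).to_quotient ((gam G (i + 1)).subgroupOf (gam G i)))
      (Additive.toMul (Multiplicative.toAdd x))
    exact ⟨k, hk⟩

/-- The fixed points of `α` in one layer. -/
noncomputable def fixSect (α : MulAut G) (i : ℕ) : AddSubgroup (Sect G i) where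
  carrier := {u | grMap α (DirectSum.of (fun i => Sect G i) i u) = DirectSum.of (fun i => Sect G i) i u}
  zero_mem' := by simp
  add_mem' := fun {u v} hu hv => by
    simp only [Set.mem_setOf_eq] at hu hv ⊢
    rw [map_add, map_add, hu, hv]
  neg_mem' := fun {u} hu => by
    simp only [Set.mem_setOf_eq] at hu ⊢
    rw [map_neg, map_neg, hu]

theorem card_fixSect_le (α : MulAut G) (i : ℕ) :
    Nat.card (fixSect α i) ≤ Nat.card {g : G // α g = g} := by
  let f : gam G i →* gam G i :=
    { toFun := fun x => ⟨α x, map_mem_gam α x.2⟩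
      map_one' := Subtype.ext (map_one α)
      map_mul' := fun x y => Subtype.ext (map_mul α _ _) }
  refine le_trans ?_ ((card_fixed_image_le f ((gam G (i + 1)).subgroupOf (gam G i))
    {q | Additive.ofMul q ∈ fixSect α i} fun x hx => ?_).trans
    (Nat.card_le_card_of_injective (fun x => ⟨((x : gam G i) : G), congrArg Subtype.val x.2⟩)
      fun x y h => ?_))
  · exact Nat.card_le_card_of_injective (fun u => ⟨Additive.toMul (u : Sect G i), u.2⟩)
      fun u v h => Subtype.ext (congrArg Subtype.val h)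
  · have h : grMap α (DirectSum.of (fun i => Sect G i) i (Additive.ofMul
        (QuotientGroup.mk x : ↥(gam G i) ⧸ (gam G (i + 1)).subgroupOf (gam G i)))) = _ := hx
    rw [grMap_of α i x] at h
    exact DirectSum.of_injective (β := fun i => Sect G i) i h
  · apply Subtype.ext
    apply Subtype.ext
    exact Subtype.mk.inj h

/-- `p ^ n` kills the sum over the powers of `α`. -/
theorem nsmul_sum_grMap_eq_zero (hG : IsPGroup p G) (α : MulAut G) (hα : α ^ p = 1) {n : ℕ}
    (hfix : Nat.card {g : G // α g = g} ≤ p ^ n) (a : Gr G) :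
    p ^ n • ∑ k : ZMod p, grMap (α ^ k.val) a = 0 := by
  haveI : NeZero p := ⟨(Fact.out : p.Prime).ne_zero⟩
  have hshift : ∀ a : Gr G, grMap α (∑ k : ZMod p, grMap (α ^ k.val) a) =
      ∑ k : ZMod p, grMap (α ^ k.val) a := by
    intro a
    rw [map_sum]
    conv_rhs => rw [← Equiv.sum_comp (Equiv.addRight (1 : ZMod p)) fun k : ZMod p => grMap (α ^ k.val) a]
    refine Finset.sum_congr rfl fun k _ => ?_
    rw [Equiv.coe_addRight, ← grMap_mul, ← pow_succ', ← pow_mod_orderOf α (k.val + 1),
      ← pow_mod_orderOf α (k + 1).val, ZMod.val_add, ZMod.val_one_eq_one_mod, Nat.add_mod_mod,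
      Nat.mod_mod_of_dvd _ (orderOf_dvd_of_pow_eq_one hα)]
  induction a using gr_induction with
  | h0 => simp
  | hcl i g hg =>
    obtain ⟨u, hu⟩ : ∃ u : Sect G i, DirectSum.of (fun i => Sect G i) i u =
        ∑ k : ZMod p, grMap (α ^ k.val) (cl i g) := by
      refine ⟨∑ k : ZMod p, Additive.ofMul
        (QuotientGroup.mk (⟨(α ^ k.val) g, map_mem_gam _ hg⟩ : gam G i) :
          ↥(gam G i) ⧸ (gam G (i + 1)).subgroupOf (gam G i)), ?_⟩
      rw [map_sum]
      refine Finset.sum_congr rfl fun k _ => ?_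
      rw [grMap_cl _ i hg, cl, dif_pos (map_mem_gam _ hg)]
      rfl
    have hmem : u ∈ fixSect α i := by
      show grMap α _ = _
      rw [hu, hshift]
    rw [← hu, ← map_nsmul, nsmul_eq_zero_of_card_le (isPGroup_sect hG i) (fixSect α i)
      ((card_fixSect_le α i).trans hfix) hmem, map_zero]
  | hadd u w hu hw => rw [Finset.sum_congr rfl fun k _ => map_add _ u w, Finset.sum_add_distrib,
      smul_add, hu, hw, add_zero]

/-- The scaled eigenspaces. -/
noncomputable def scaled (p : ℕ) (α : MulAut G) (q : ℕ) (d : ZMod p) : AddSubgroup (ExtGr p G) :=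
  (eig p α d).map (nsmulAddMonoidHom q)

theorem lie_mem_eig (α : MulAut G) {a b : ZMod p} {x y : ExtGr p G} (hx : x ∈ eig p α a)
    (hy : y ∈ eig p α b) : ⁅x, y⁆ ∈ eig p α (a + b) := by
  show extMap p α ⁅x, y⁆ = rootPow p (a + b) • ⁅x, y⁆
  rw [extMap_lie, show extMap p α x = _ from hx, show extMap p α y = _ from hy, ext_smul_lie,
    rootPow_add]

theorem isGraded_scaled (hG : IsPGroup p G) (α : MulAut G) (hα : α ^ p = 1) {n : ℕ}
    (hfix : Nat.card {g : G // α g = g} ≤ p ^ n) : IsGraded (scaled p α (p ^ (n + 1))) := by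
  haveI : NeZero p := ⟨(Fact.out : p.Prime).ne_zero⟩
  constructor
  · rw [eq_bot_iff]
    rintro _ ⟨x, hx, rfl⟩
    have hx' : extMap p α x = x := by
      have h : extMap p α x = rootPow p 0 • x := hx
      rwa [rootPow_zero, one_smul] at h
    have hpow : ∀ k : ℕ, extMap p (α ^ k) x = x := by
      intro k
      induction k with
      | zero => rw [pow_zero, extMap_one]
      | succ k ih => rw [pow_succ, ← extMap_extMap, hx', ih]
    have hzero : ∀ y : ExtGr p G, p ^ n • ∑ k : ZMod p, extMap p (α ^ k.val) y = 0 := by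
      intro y
      induction y using TensorProduct.induction_on with
      | zero => simp
      | tmul r a =>
        simp only [extMap_tmul, ← TensorProduct.tmul_sum]
        rw [← TensorProduct.tmul_smul, nsmul_sum_grMap_eq_zero hG α hα hfix a, TensorProduct.tmul_zero]
      | add u w hu hw => simp only [map_add, Finset.sum_add_distrib, smul_add, hu, hw, add_zero]
    have := hzero x
    simp only [hpow, Finset.sum_const, Finset.card_univ, ZMod.card] at this
    rw [AddSubgroup.mem_bot]
    show p ^ (n + 1) • x = 0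
    rwa [pow_succ, mul_smul]
  · rintro a b _ ⟨x, hx, rfl⟩ _ ⟨y, hy, rfl⟩
    refine ⟨p ^ (n + 1) • ⁅x, y⁆, nsmul_mem (lie_mem_eig α hx hy) _, ?_⟩
    show p ^ (n + 1) • p ^ (n + 1) • ⁅x, y⁆ = ⁅p ^ (n + 1) • x, p ^ (n + 1) • y⁆
    exact ((nsmul_lie x _ _).trans (congrArg _ (lie_nsmul x y _))).symm

theorem nsmul_mem_scaled (α : MulAut G) (hα : α ^ p = 1) (n : ℕ) (x : ExtGr p G) :
    p ^ (n + 2) • x ∈ ⨆ d, scaled p α (p ^ (n + 1)) d := by
  haveI : NeZero p := ⟨(Fact.out : p.Prime).ne_zero⟩
  have h : ∑ d : ZMod p, proj p α d x = (p : CycRing p) • x := by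
    simp only [proj]
    rw [Finset.sum_comm]
    simp only [← Finset.sum_smul, sum_rootPow_mul, ite_smul, zero_smul, Finset.sum_ite_eq',
      Finset.mem_univ, if_true]
    rw [ZMod.val_zero, pow_zero, extMap_one]
  rw [show p ^ (n + 2) = p ^ (n + 1) * p from pow_succ _ _, mul_smul, ← Nat.cast_smul_eq_nsmul (CycRing p) p x, ← h, Finset.smul_sum]
  exact AddSubgroup.sum_mem _ fun d _ => AddSubgroup.mem_iSup_of_mem d ⟨_, proj_mem α hα d x, rfl⟩

theorem lie_mem_iSup_iterBr {M : ZMod p → AddSubgroup (ExtGr p G)} {i : ℕ} {x y : ExtGr p G}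
    (hx : x ∈ ⨆ d, iterBr M M i d) (hy : y ∈ ⨆ d, M d) :
    ⁅x, y⁆ ∈ ⨆ d, iterBr M M (i + 1) d := by
  rw [AddSubgroup.iSup_eq_closure] at hx hy
  refine lie_mem_of_closure hx fun u hu => lie_mem_of_closure_right hy fun v hv => ?_
  obtain ⟨a, ha⟩ := Set.mem_iUnion.mp hu
  obtain ⟨b, hb⟩ := Set.mem_iUnion.mp hv
  exact AddSubgroup.mem_iSup_of_mem (a + b) (lie_mem_br (A := iterBr M M i) (B := M) ha hb)

/-- The exponent of the factor `γ m / γ (m+1)`. -/
theorem pow_mem_gam (hG : IsPGroup p G) (α : MulAut G) (hα : α ^ p = 1) {n : ℕ}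
    (hfix : Nat.card {g : G // α g = g} ≤ p ^ n) {g : G} (hg : g ∈ gam G (classBound p)) :
    g ^ p ^ ((n + 2) * (classBound p + 1)) ∈ gam G (classBound p + 1) := by
  set m := classBound p with hm
  set Q := p ^ (n + 2) with hQ
  set M := scaled p α (p ^ (n + 1)) with hM
  have hsup := nsmul_mem_scaled (G := G) α hα n
  have hmem : ∀ i, ∀ g ∈ gam G i,
      Q ^ (i + 1) • ((1 : CycRing p) ⊗ₜ[ℤ] cl i g) ∈ ⨆ d, iterBr M M i d := by
    intro i
    induction i with
    | zero => intro g _; rw [zero_add, pow_one]; exact hsup _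
    | succ i ih =>
      intro g hg
      have hg' : g ∈ ⁅gam G i, (⊤ : Subgroup G)⁆ := hg
      rw [Subgroup.commutator_def] at hg'
      induction hg' using Subgroup.closure_induction with
      | one => rw [cl_one, TensorProduct.tmul_zero, smul_zero]; exact zero_mem _
      | mul a b ha hb iha ihb =>
        rw [cl_mul _ (by exact ha) (by exact hb), TensorProduct.tmul_add, smul_add]
        exact add_mem (iha (by exact ha)) (ihb (by exact hb))
      | inv a ha iha =>
        rw [cl_inv _ (by exact ha), TensorProduct.tmul_neg, smul_neg]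
        exact neg_mem (iha (by exact ha))
      | mem g hg' =>
        obtain ⟨x, hx, y, -, rfl⟩ := hg'
        have h := lie_mem_iSup_iterBr (ih x hx) (hsup ((1 : CycRing p) ⊗ₜ[ℤ] cl 0 y))
        rw [show Q ^ (i + 1 + 1) • ((1 : CycRing p) ⊗ₜ[ℤ] cl (i + 1) ⁅x, y⁆) =
          ⁅Q ^ (i + 1) • ((1 : CycRing p) ⊗ₜ[ℤ] cl i x), Q • ((1 : CycRing p) ⊗ₜ[ℤ] cl 0 y)⁆ by
            refine Eq.symm ((nsmul_lie _ _ _).trans ?_)
            refine (congrArg _ (lie_nsmul _ _ _)).trans ?_
            rw [LieAlgebra.ExtendScalars.bracket_tmul, one_mul, lie_cl hx (Subgroup.mem_top y),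
              add_zero, smul_smul, ← pow_succ]]
        exact h
  have hbot : iterBr M M m = ⊥ := iterBr_eq_bot (isGraded_scaled hG α hα hfix)
  have h0 : Q ^ (m + 1) • ((1 : CycRing p) ⊗ₜ[ℤ] cl m g) = 0 := by
    have h := hmem m g hg
    rwa [hbot, show (⨆ d, (⊥ : ZMod p → AddSubgroup (ExtGr p G)) d) = ⊥ by simp,
      AddSubgroup.mem_bot] at h
  rw [← cl_eq_zero_iff m ((gam G m).pow_mem hg _), cl_pow m hg]
  rw [← TensorProduct.tmul_smul, hQ, ← pow_mul] at h0
  have hmon : (Polynomial.cyclotomic p ℤ).Monic := Polynomial.cyclotomic.monic p ℤ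
  let φ : CycRing p →ₗ[ℤ] ℤ := (Polynomial.lcoeff ℤ 0).comp (AdjoinRoot.modByMonicHom hmon)
  have hφ : φ 1 = 1 := by
    show (AdjoinRoot.modByMonicHom hmon 1).coeff 0 = 1
    rw [show (1 : CycRing p) = AdjoinRoot.mk (Polynomial.cyclotomic p ℤ) 1 from (map_one _).symm,
      AdjoinRoot.modByMonicHom_mk,
      (Polynomial.modByMonic_eq_self_iff hmon).mpr (by
        rw [Polynomial.degree_one, Polynomial.degree_cyclotomic]
        exact_mod_cast Nat.totient_pos.mpr (Fact.out : p.Prime).pos), Polynomial.coeff_one_zero]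
  have h1 := congrArg ((TensorProduct.lid ℤ (Gr G)).toLinearMap ∘ₗ φ.rTensor (Gr G)) h0
  simpa [hφ] using h1

/-- The order bound of the factor. -/
def factorBound (p n : ℕ) : ℕ := (p ^ n) ^ (p * ((n + 2) * (classBound p + 1)))

theorem relIndex_le (hG : IsPGroup p G) (α : MulAut G) (hα : α ^ p = 1) {n : ℕ}
    (hfix : Nat.card {g : G // α g = g} ≤ p ^ n) :
    (gam G (classBound p + 1)).relIndex (gam G (classBound p)) ≤ factorBound p n := by
  set m := classBound p
  let f : MulAut G → AddMonoid.End (Sect G m) := fun β =>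
    MonoidHom.toAdditive (QuotientGroup.map ((gam G (m + 1)).subgroupOf (gam G m))
      ((gam G (m + 1)).subgroupOf (gam G m))
      { toFun := fun x : gam G m => (⟨β x, map_mem_gam β x.2⟩ : gam G m)
        map_one' := Subtype.ext (map_one β)
        map_mul' := fun x y => Subtype.ext (map_mul β _ _) }
      fun x hx => map_mem_gam β (i := m + 1) hx)
  have hf1 : f 1 = 1 := by
    refine AddMonoidHom.ext fun u => ?_
    obtain ⟨x, hx⟩ := QuotientGroup.mk_surjective (Additive.toMul u)
    rw [show u = Additive.ofMul _ from congrArg Additive.ofMul hx.symm]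
    rfl
  have hfm : ∀ β γ, f (β * γ) = f β * f γ := fun β γ => by
    refine AddMonoidHom.ext fun u => ?_
    obtain ⟨x, hx⟩ := QuotientGroup.mk_surjective (Additive.toMul u)
    rw [show u = Additive.ofMul _ from congrArg Additive.ofMul hx.symm]
    rfl
  let F : MulAut G →* AddMonoid.End (Sect G m) := ⟨⟨f, hf1⟩, hfm⟩
  refine card_le_of_fixed (A := Sect G m) (N := p ^ n) (F α) (by rw [← map_pow, hα, map_one])
    (fun u => ?_) ?_
  · obtain ⟨⟨x, hx'⟩, hx⟩ := QuotientGroup.mk_surjective (Additive.toMul u)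
    rw [show u = Additive.ofMul _ from congrArg Additive.ofMul hx.symm, ← ofMul_pow,
      ← QuotientGroup.mk_pow, show (0 : Sect G m) = Additive.ofMul 1 from rfl]
    exact congrArg Additive.ofMul ((QuotientGroup.eq_one_iff _).2
      (pow_mem_gam hG α hα hfix hx'))
  · refine le_trans (Nat.card_le_card_of_injective (fun u => (⟨u.1, ?_⟩ : fixSect α m))
      fun u v h => by apply Subtype.ext; exact Subtype.mk.inj h) ((card_fixSect_le α m).trans hfix)
    show grMap α _ = _
    obtain ⟨x, hx⟩ := QuotientGroup.mk_surjective (Additive.toMul u.1)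
    rw [show u.1 = Additive.ofMul _ from congrArg Additive.ofMul hx.symm, grMap_of α m x]
    refine congrArg _ ?_
    have h := u.2
    rw [show u.1 = Additive.ofMul _ from congrArg Additive.ofMul hx.symm] at h
    exact h

end CfsgLib.AlperinBound
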