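import Cfsg.Agent.AlperinBound.PGroup
import Cfsg.Agent.PLocal.PSolvable
import Cfsg.Agent.S4218

/-!
# Alperin's bound on the derived length

`p'`-core: fixed-point-free, so of bounded class; `O_p`: the `p`-group bound; the rest acts faithfully
on the Frattini quotient of `O_p`, which has order at most `(p ^ n) ^ p`.
-/

set_option autoImplicit false
set_option linter.style.haveILetI false
set_option linter.unusedSectionVars false

namespace CfsgLib.AlperinBound

open Subgroup
open scoped commutatorElement
open CfsgLib.FpfClass (gam)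

variable {G : Type*} [Group G] [Finite G]

theorem derivedSeries_le_map {a : ℕ} {N : Subgroup G} (h : derivedSeries G a ≤ N) :
    ∀ b, derivedSeries G (a + b) ≤ (derivedSeries N b).map N.subtype := by
  intro b
  induction b with
  | zero => rw [derivedSeries_zero, ← MonoidHom.range_eq_map, range_subtype]; exact h
  | succ b ih =>
    show ⁅derivedSeries G (a + b), derivedSeries G (a + b)⁆ ≤ _
    rw [derivedSeries_succ, map_commutator]
    exact commutator_mono ih ih

theorem derivedSeries_add_eq_bot {a b : ℕ} {N : Subgroup G} (h : derivedSeries G a ≤ N)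
    (hN : derivedSeries N b = ⊥) : derivedSeries G (a + b) = ⊥ := by
  have := derivedSeries_le_map h b
  rwa [hN, Subgroup.map_bot, le_bot_iff] at this

theorem derivedSeries_le_of_quotient {N : Subgroup G} [N.Normal] {a : ℕ}
    (h : derivedSeries (G ⧸ N) a = ⊥) : derivedSeries G a ≤ N := by
  have h1 := map_derivedSeries_eq (f := QuotientGroup.mk' N) (QuotientGroup.mk'_surjective N) a
  rw [h, Subgroup.map_eq_bot_iff, QuotientGroup.ker_mk'] at h1
  exact h1

theorem derivedSeries_card_eq_bot [Group.IsSolvable G] :
    derivedSeries G (Nat.card G) = ⊥ := by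
  obtain ⟨s, hs⟩ := (Group.isSolvable_def G).1 inferInstance
  have hanti : ∀ a b, a ≤ b → derivedSeries G b ≤ derivedSeries G a := fun a b h =>
    derivedSeries_antitone G h
  have key : ∀ k, derivedSeries G k = ⊥ ∨ Nat.card (derivedSeries G k) + k ≤ Nat.card G := by
    intro k
    induction k with
    | zero => right; rw [derivedSeries_zero, card_top, add_zero]
    | succ k ih =>
      rcases ih with h | h
      · left; exact le_bot_iff.mp (h ▸ hanti k (k + 1) (Nat.le_succ k))
      by_cases heq : derivedSeries G (k + 1) = derivedSeries G k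
      · left
        have hconst : ∀ i, derivedSeries G (k + i) = derivedSeries G k := by
          intro i
          induction i with
          | zero => rfl
          | succ i ihi =>
            show ⁅derivedSeries G (k + i), derivedSeries G (k + i)⁆ = _
            rw [ihi]
            exact heq
        rw [heq, ← hconst s]
        exact le_bot_iff.mp (hs ▸ hanti s (k + s) (Nat.le_add_left s k))
      · right
        have hlt : Nat.card (derivedSeries G (k + 1)) < Nat.card (derivedSeries G k) := by
          by_contra hc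
          exact heq (eq_of_le_of_card_ge (hanti k (k + 1) (Nat.le_succ k)) (not_lt.1 hc))
        omega
  rcases key (Nat.card G) with h | h
  · exact h
  · have := Nat.card_pos (α := derivedSeries G (Nat.card G))
    omega

theorem pow_subgroupMap {α : MulAut G} {H : Subgroup G} (β : MulAut H)
    (hβ : ∀ x : H, ((β x : H) : G) = α x) {p : ℕ} (hα : α ^ p = 1) : β ^ p = 1 := by
  have h : ∀ (k : ℕ) (x : H), (((β ^ k) x : H) : G) = (α ^ k) (x : G) := by
    intro k
    induction k with
    | zero => intro x; rfl
    | succ k ih => intro x; rw [pow_succ, pow_succ, MulAut.mul_apply, MulAut.mul_apply, ih, hβ]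
  ext x
  rw [h, hα]
  rfl

variable {p : ℕ} [hp : Fact p.Prime]

/-- The bound for a group with trivial `p'`-core. -/
def coreFreeBound (p n : ℕ) : ℕ :=
  ((p ^ n) ^ p) ^ ((p ^ n) ^ p) + pGroupBound p n

theorem derivedSeries_mono {a b : ℕ} (h : a ≤ b) (ha : derivedSeries G a = ⊥) :
    derivedSeries G b = ⊥ :=
  le_bot_iff.mp ((derivedSeries_antitone G h).trans ha.le)

theorem derivedSeries_coreFree [Group.IsSolvable G] (hO : Cfsg.pPrimeCore p G = ⊥) (α : MulAut G)
    (hα : α ^ p = 1) {n : ℕ} (hfix : Nat.card {g : G // α g = g} ≤ p ^ n) :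
    derivedSeries G (coreFreeBound p n) = ⊥ := by
  set O := Cfsg.pCore p G with hOdef
  have hOp : IsPGroup p O := CfsgLib.PLocal.isPGroup_pCore p G
  let β : MulAut O := (α.subgroupMap O).trans
    (MulEquiv.subgroupCongr (characteristic_iff_map_eq.1 inferInstance α))
  have hβ : ∀ x : O, ((β x : O) : G) = α x := fun x => rfl
  have hβp := pow_subgroupMap β hβ hα
  have hfixO : Nat.card {x : O // β x = x} ≤ p ^ n := by
    refine le_trans (Nat.card_le_card_of_injective (fun x => (⟨((x : O) : G),
      (hβ _).symm.trans (congrArg Subtype.val x.2)⟩ : {g : G // α g = g})) fun x y h => ?_) hfix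
    apply Subtype.ext
    apply Subtype.ext
    exact Subtype.mk.inj h
  refine derivedSeries_add_eq_bot (N := O) (derivedSeries_le_of_quotient ?_)
    (derivedSeries_pGroup_eq_bot hOp β hβp hfixO)
  -- the Frattini quotient of `O` is small
  set F := frattini O
  haveI hFn : F.Normal := inferInstanceAs (frattini O).Normal
  letI : CommGroup (O ⧸ F) := { (inferInstance : Group (O ⧸ F)) with
    mul_comm := fun a c => by
      induction a using QuotientGroup.induction_on with
      | H a =>
        induction c using QuotientGroup.induction_on with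
        | H c =>
          show ((a * c : O) : O ⧸ F) = ((c * a : O) : O ⧸ F)
          rw [QuotientGroup.eq,
            show (a * c)⁻¹ * (c * a) = ⁅c⁻¹, a⁻¹⁆ by rw [commutatorElement_def]; group]
          exact CfsgLib.Solvable.commutator_le_frattini hOp
            (Subgroup.commutator_mem_commutator (Subgroup.mem_top _) (Subgroup.mem_top _)) }
  have hFmap : ∀ γ : MulAut O, ∀ x ∈ F, γ x ∈ F := fun γ x hx => by
    have h := mem_map_of_mem γ.toMonoidHom hx
    rwa [show F.map γ.toMonoidHom = F from
      characteristic_iff_map_eq.1 (inferInstance : (frattini O).Characteristic) γ] at h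
  let fW : MulAut O → AddMonoid.End (Additive (O ⧸ F)) := fun γ =>
    MonoidHom.toAdditive (QuotientGroup.map F F γ.toMonoidHom fun x hx => hFmap γ x hx)
  have hf1 : fW 1 = 1 := by
    refine AddMonoidHom.ext fun u => ?_
    obtain ⟨x, hx⟩ := QuotientGroup.mk_surjective (Additive.toMul u)
    rw [show u = Additive.ofMul _ from congrArg Additive.ofMul hx.symm]
    rfl
  have hfm : ∀ γ δ, fW (γ * δ) = fW γ * fW δ := fun γ δ => by
    refine AddMonoidHom.ext fun u => ?_
    obtain ⟨x, hx⟩ := QuotientGroup.mk_surjective (Additive.toMul u)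
    rw [show u = Additive.ofMul _ from congrArg Additive.ofMul hx.symm]
    rfl
  let Φ : MulAut O →* AddMonoid.End (Additive (O ⧸ F)) := ⟨⟨fW, hf1⟩, hfm⟩
  have hW : Nat.card (O ⧸ F) ≤ (p ^ n) ^ p := by
    have h := card_le_of_fixed (A := Additive (O ⧸ F)) (N := p ^ n) (E := 1) (Φ β)
      (by rw [← map_pow, hβp, map_one]) (fun u => ?_) ?_
    · rwa [mul_one] at h
    · obtain ⟨x, hx⟩ := QuotientGroup.mk_surjective (Additive.toMul u)
      rw [pow_one, show u = Additive.ofMul _ from congrArg Additive.ofMul hx.symm, ← ofMul_pow,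
        ← QuotientGroup.mk_pow]
      exact congrArg Additive.ofMul
        ((QuotientGroup.eq_one_iff _).2 (CfsgLib.Solvable.pow_mem_frattini hOp x))
    · refine le_trans ?_ ((card_fixed_image_le β.toMonoidHom F
        {q | Φ β (Additive.ofMul q) = Additive.ofMul q} fun x hx => hx).trans hfixO)
      exact Nat.card_le_card_of_injective (fun u => ⟨Additive.toMul u.1, u.2⟩)
        fun u v h => by apply Subtype.ext; exact congrArg Additive.ofMul (Subtype.mk.inj h)
  -- `G / O` acts faithfully on it
  have hmemF : ∀ x : O, x ∈ F ↔ (x : G) ∈ F.map O.subtype := fun x =>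
    ⟨fun h => ⟨x, h, rfl⟩, fun ⟨z, hz, hze⟩ => (Subtype.ext hze : z = x) ▸ hz⟩
  let act : G ⧸ O → (O ⧸ F → O ⧸ F) := fun q u =>
    QuotientGroup.mk (MulAut.conjNormal (Quotient.out q) (Quotient.out u))
  have hinj : Function.Injective act := by
    intro a b h
    have key : ∀ x : O, ((MulAut.conjNormal a.out x : O) : O ⧸ F) =
        ((MulAut.conjNormal b.out x : O) : O ⧸ F) := by
      intro x
      obtain ⟨f, hf⟩ := QuotientGroup.mk_out_eq_mul F x
      have h1 := congrFun h (x : O ⧸ F)
      simp only [act] at h1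
      rw [hf, map_mul, map_mul, QuotientGroup.mk_mul, QuotientGroup.mk_mul,
        (QuotientGroup.eq_one_iff _).2 (hFmap _ f f.2), (QuotientGroup.eq_one_iff _).2 (hFmap _ f f.2),
        mul_one, mul_one] at h1
      exact h1
    rw [← QuotientGroup.out_eq' a, ← QuotientGroup.out_eq' b, QuotientGroup.eq]
    refine (Cfsg.Agent.S4218.mem_pCore_iff CfsgLib.PLocal.isPSolvable_of_isSolvable hO _).1
      fun x hx => ?_
    set g := a.out⁻¹ * b.out
    let y : O := MulAut.conjNormal g ⟨x, hx⟩ * (⟨x, hx⟩ : O)⁻¹
    suffices hy : y ∈ F from (hmemF y).1 hy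
    have hconj : MulAut.conjNormal a.out y ∈ F := by
      rw [← QuotientGroup.eq_one_iff]
      rw [map_mul, map_inv, ← MulAut.mul_apply, ← map_mul MulAut.conjNormal, mul_inv_cancel_left,
        QuotientGroup.mk_mul, QuotientGroup.mk_inv, key, mul_inv_cancel]
    have h2 := hFmap (MulAut.conjNormal a.out)⁻¹ _ hconj
    rwa [MulAut.inv_apply_self] at h2
  have hX : Nat.card (G ⧸ O) ≤ ((p ^ n) ^ p) ^ ((p ^ n) ^ p) := by
    refine (Nat.card_le_card_of_injective act hinj).trans ?_
    rw [Nat.card_fun]
    exact (Nat.pow_le_pow_left hW _).trans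
      (Nat.pow_le_pow_right (pow_pos (pow_pos hp.out.pos n) p) hW)
  exact derivedSeries_mono hX derivedSeries_card_eq_bot

/-- The bound on the derived length. -/
def bound (p n : ℕ) : ℕ := coreFreeBound p n + classBound p

theorem derivedSeries_eq_bot [Group.IsSolvable G] (α : MulAut G) (hα : α ^ p = 1) {n : ℕ}
    (hcard : Nat.card {g : G // α g = g} = p ^ n) : derivedSeries G (bound p n) = ⊥ := by
  set N := Cfsg.pPrimeCore p G with hNdef
  have hNmap : N.map α.toMonoidHom = N := characteristic_iff_map_eq.1 inferInstance α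
  let β : MulAut N := (α.subgroupMap N).trans (MulEquiv.subgroupCongr hNmap)
  have hβ : ∀ x : N, ((β x : N) : G) = α x := fun x => rfl
  have hβp := pow_subgroupMap β hβ hα
  have hfpf : ∀ x : N, β x = x → x = 1 := by
    intro x hx
    let C : Subgroup G := α.toMonoidHom.eqLocus (MonoidHom.id G)
    have hxC : (x : G) ∈ C := (hβ x).symm.trans (congrArg Subtype.val hx)
    have h1 : orderOf (x : G) ∣ p ^ n :=
      hcard ▸ (orderOf_mk (x : G) hxC ▸ orderOf_dvd_natCard (⟨x, hxC⟩ : C) :
        orderOf (x : G) ∣ Nat.card C)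
    have h2 : orderOf (x : G) ∣ Nat.card N := orderOf_dvd_natCard x |> (orderOf_coe x ▸ ·)
    have h3 : (Nat.card N).Coprime p := CfsgLib.PLocal.coprime_card_pPrimeCore p G
    have h4 : orderOf (x : G) = 1 :=
      Nat.eq_one_of_dvd_coprimes (h3.pow_right n) h2 h1
    exact Subtype.ext (orderOf_eq_one_iff.1 h4)
  have hN : derivedSeries N (classBound p) = ⊥ := by
    have hnil : Group.IsNilpotent N :=
      CfsgLib.ThompsonFpf.isNilpotent_of_fpf (p := p) β (fun g hg => hfpf g hg) hβp
    have h := CfsgLib.FpfClass.lowerCentralSeries_eq_bot hnil β hβp hfpf _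
      (CfsgLib.FpfClass.iterBr_eq_bot (CfsgLib.FpfClass.isGraded_eig β hβp hfpf))
    exact le_bot_iff.mp ((Subgroup.derived_le_lower_central _).trans h.le)
  refine derivedSeries_add_eq_bot (derivedSeries_le_of_quotient ?_) hN
  let γ : MulAut (G ⧸ N) := QuotientGroup.congr N N α hNmap
  have hγ : ∀ g : G, γ (g : G ⧸ N) = ((α g : G) : G ⧸ N) := fun g => rfl
  have hγp : γ ^ p = 1 := by
    have h : ∀ (k : ℕ) (g : G), (γ ^ k) (g : G ⧸ N) = (((α ^ k) g : G) : G ⧸ N) := by
      intro k
      induction k with
      | zero => intro g; rfl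
      | succ k ih => intro g; rw [pow_succ, pow_succ, MulAut.mul_apply, MulAut.mul_apply, hγ, ih]
    refine MulEquiv.ext fun u => ?_
    obtain ⟨g, rfl⟩ := QuotientGroup.mk_surjective u
    rw [h, hα]
    rfl
  have hfixQ : Nat.card {u : G ⧸ N // γ u = u} ≤ p ^ n :=
    hcard ▸ card_fixed_image_le α.toMonoidHom N {u | γ u = u} fun x hx => hx
  exact derivedSeries_coreFree (CfsgLib.PLocal.pPrimeCore_quotient_pPrimeCore_eq_bot p G) γ hγp hfixQ

end CfsgLib.AlperinBound
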