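import Cfsg.Agent.AlperinBound.Lie

/-!
# Derived length of a `p`-group with an almost fixed-point-free automorphism of order `p`

If `T ◁ P` and `[T, _k P] ≤ T'` for a normal `T'`, and `T' = [T, H]` with `H ≤ γ_j P`, `j ≥ k`, then
`T' = 1` by nilpotency; so a term of the lower central series of bounded index has bounded class.
-/

set_option autoImplicit false
set_option linter.style.haveILetI false
set_option linter.unusedSectionVars false

namespace CfsgLib.AlperinBound

open Subgroup
open scoped commutatorElement
open CfsgLib.FpfClass (gam)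

variable {P : Type*} [Group P]

/-- The iterated commutator with the whole group. -/
def commIter (T : Subgroup P) : ℕ → Subgroup P
  | 0 => T
  | k + 1 => ⁅commIter T k, (⊤ : Subgroup P)⁆

theorem commIter_normal (T : Subgroup P) [T.Normal] : ∀ k, (commIter T k).Normal
  | 0 => ‹T.Normal›
  | k + 1 => by
    haveI := commIter_normal T k
    exact commutator_normal _ _

theorem commIter_add (T : Subgroup P) (a : ℕ) : ∀ b, commIter T (a + b) = commIter (commIter T a) b
  | 0 => rfl
  | b + 1 => by
    show ⁅commIter T (a + b), (⊤ : Subgroup P)⁆ = _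
    rw [commIter_add T a b]
    rfl

theorem commIter_mono {S T : Subgroup P} (h : S ≤ T) : ∀ k, commIter S k ≤ commIter T k
  | 0 => h
  | k + 1 => commutator_mono (commIter_mono h k) le_rfl

theorem commIter_le (T : Subgroup P) [T.Normal] (k : ℕ) : commIter T k ≤ T := by
  induction k with
  | zero => exact le_rfl
  | succ k ih => exact (commutator_mono ih le_rfl).trans (commutator_le_left T ⊤)

theorem commIter_antitone (T : Subgroup P) [T.Normal] {a b : ℕ} (h : a ≤ b) :
    commIter T b ≤ commIter T a := by
  obtain ⟨c, rfl⟩ := Nat.exists_eq_add_of_le h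
  haveI := commIter_normal T a
  rw [commIter_add]
  exact commIter_le _ c

theorem commutator_gam_le_commIter : ∀ (j : ℕ) (T : Subgroup P), T.Normal →
    ⁅T, gam P j⁆ ≤ commIter T (j + 1) := by
  intro j
  induction j with
  | zero => intro T _; exact commutator_mono le_rfl le_top
  | succ j ih =>
    intro T hT
    haveI := commIter_normal T (j + 2)
    show ⁅T, ⁅gam P j, (⊤ : Subgroup P)⁆⁆ ≤ _
    have key : ∀ K : Subgroup P, K.map (QuotientGroup.mk' (commIter T (j + 2))) = ⊥ ↔
        K ≤ commIter T (j + 2) := fun K => by
      rw [Subgroup.map_eq_bot_iff, QuotientGroup.ker_mk']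
    have h1 : ⁅⁅(⊤ : Subgroup P), T⁆, gam P j⁆ ≤ commIter T (j + 2) := by
      rw [commutator_comm ⊤]
      refine (ih ⁅T, (⊤ : Subgroup P)⁆ inferInstance).trans ?_
      rw [show j + 2 = 1 + (j + 1) by omega, commIter_add T 1 (j + 1)]
      exact le_rfl
    have h2 : ⁅⁅T, gam P j⁆, (⊤ : Subgroup P)⁆ ≤ commIter T (j + 2) :=
      commutator_mono (ih T hT) le_rfl
    rw [commutator_comm]
    rw [← key] at h1 h2 ⊢
    rw [map_commutator, map_commutator] at h1 h2 ⊢
    exact commutator_commutator_eq_bot_of_rotate h1 h2

theorem eq_bot_of_le_commutator [Group.IsNilpotent P] {X : Subgroup P}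
    (h : X ≤ ⁅X, (⊤ : Subgroup P)⁆) : X = ⊥ := by
  obtain ⟨c, hc⟩ := Subgroup.nilpotent_iff_lowerCentralSeries.mp ‹Group.IsNilpotent P›
  have hk : ∀ k, X ≤ gam P k := by
    intro k
    induction k with
    | zero => exact le_top
    | succ k ih => exact h.trans (commutator_mono ih le_rfl)
  exact le_bot_iff.mp ((hk c).trans hc.le)

/-- A normal section of order at most `B` is centralised in `B` steps. -/
theorem commIter_le_of_relIndex [Finite P] [Group.IsNilpotent P] {T U : Subgroup P} [T.Normal]
    [U.Normal] (hUT : U ≤ T) {B : ℕ} (hB : U.relIndex T ≤ B) : commIter T B ≤ U := by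
  set X : ℕ → Subgroup P := fun k => commIter T k ⊔ U with hX
  have hn : ∀ k, (X k).Normal := fun k => by
    haveI := commIter_normal T k
    exact sup_normal _ _
  have hanti : ∀ k, X (k + 1) ≤ X k := fun k =>
    sup_le_sup_right (commIter_antitone T (Nat.le_succ k)) U
  have hstab : ∀ k, X k = X (k + 1) → commIter T k ≤ U := by
    intro k hk
    obtain ⟨c, hc⟩ := Subgroup.nilpotent_iff_lowerCentralSeries.mp ‹Group.IsNilpotent P›
    have h : ∀ i, commIter T k ≤ commIter T (k + i) ⊔ U := by
      intro i
      induction i with
      | zero => exact le_sup_left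
      | succ i ih =>
        have h1 : commIter T k ≤ commIter T (k + 1) ⊔ U :=
          le_sup_left.trans (le_of_eq hk)
        refine h1.trans (sup_le ?_ le_sup_right)
        show ⁅commIter T k, (⊤ : Subgroup P)⁆ ≤ _
        refine (commutator_mono ih le_rfl).trans ?_
        haveI := commIter_normal T (k + (i + 1))
        haveI : (commIter T (k + (i + 1)) ⊔ U).Normal := sup_normal _ _
        refine commutator_le.2 fun a ha b hb => ?_
        obtain ⟨u, hu, v, hv, rfl⟩ := mem_sup_of_normal_right.1 ha
        rw [show ⁅u * v, b⁆ = (u * ⁅v, b⁆ * u⁻¹) * ⁅u, b⁆ by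
          simp only [commutatorElement_def]; group]
        refine mul_mem (Normal.conj_mem inferInstance _ (mem_sup_right ?_) u)
          (mem_sup_left (commutator_mem_commutator (H₁ := commIter T (k + i)) hu hb))
        exact commutator_le_left U ⊤ (commutator_mem_commutator hv hb)
    have h2 : ∀ i, commIter T i ≤ gam P i := fun i => by
      induction i with
      | zero => exact le_top
      | succ i ih => exact commutator_mono ih le_rfl
    refine (h c).trans (sup_le ?_ le_rfl)
    exact ((h2 (k + c)).trans ((CfsgLib.FpfClass.gam_anti (Nat.le_add_left c k)).trans hc.le)).trans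
      bot_le
  by_contra hB'
  have hlt : ∀ k ≤ B, U.relIndex (X k) + k ≤ B := by
    intro k
    induction k with
    | zero => intro _; rw [add_zero, show X 0 = T from sup_eq_left.2 hUT]; exact hB
    | succ k ih =>
      intro hk
      have h1 := ih (by omega)
      have hne : X (k + 1) ≠ X k := fun h =>
        hB' ((commIter_antitone T (by omega)).trans (hstab k h.symm))
      have h2 : U.relIndex (X (k + 1)) < U.relIndex (X k) := by
        rw [← relIndex_mul_relIndex U (X (k + 1)) (X k) le_sup_right (hanti k)]
        refine lt_mul_of_one_lt_right (Nat.pos_of_ne_zero index_ne_zero_of_finite) ?_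
        rcases Nat.lt_or_ge 1 ((X (k + 1)).relIndex (X k)) with h | h
        · exact h
        · refine absurd (le_antisymm (hanti k) (relIndex_eq_one.1 ?_)) hne
          have : (X (k + 1)).relIndex (X k) ≠ 0 := index_ne_zero_of_finite
          omega
      omega
  have := hlt B le_rfl
  have hpos : U.relIndex (X B) ≠ 0 := index_ne_zero_of_finite
  omega

variable [Finite P] {p : ℕ} [Fact p.Prime]

theorem map_gam (α : MulAut P) (i : ℕ) : (gam P i).map α.toMonoidHom = gam P i := by
  rw [map_lowerCentralSeries, map_top_of_surjective _ α.surjective]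

/-- The bound on the derived length. -/
def pGroupBound (p n : ℕ) : ℕ := factorBound p n + classBound p + 1

theorem derivedSeries_pGroup_eq_bot (hP : IsPGroup p P) (α : MulAut P) (hα : α ^ p = 1) {n : ℕ}
    (hfix : Nat.card {g : P // α g = g} ≤ p ^ n) : derivedSeries P (pGroupBound p n) = ⊥ := by
  haveI : Group.IsNilpotent P := hP.isNilpotent
  set B := factorBound p n
  set m := classBound p
  set H := gam P B with hH
  -- the automorphism of `H`
  let β : MulAut H :=
    (α.subgroupMap H).trans (MulEquiv.subgroupCongr (map_gam α B))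
  have hβ : ∀ x : H, ((β x : H) : P) = α x := fun x => rfl
  have hβp : β ^ p = 1 := by
    have h : ∀ (k : ℕ) (x : H), (((β ^ k) x : H) : P) = (α ^ k) (x : P) := by
      intro k
      induction k with
      | zero => intro x; rfl
      | succ k ih => intro x; rw [pow_succ, pow_succ, MulAut.mul_apply, MulAut.mul_apply, ih, hβ]
    ext x
    rw [h, hα]
    rfl
  have hfixH : Nat.card {x : H // β x = x} ≤ p ^ n := by
    refine le_trans (Nat.card_le_card_of_injective (fun x => (⟨((x : H) : P),
      (hβ _).symm.trans (congrArg Subtype.val x.2)⟩ : {g : P // α g = g})) fun x y h => ?_) hfix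
    apply Subtype.ext
    apply Subtype.ext
    exact Subtype.mk.inj h
  -- the factor, inside `P`
  set T := H.lowerCentralSeries m with hT
  set U := H.lowerCentralSeries (m + 1) with hU
  have hTU : ∀ i, (gam H i).map H.subtype = H.lowerCentralSeries i := fun i => by
    rw [map_lowerCentralSeries, ← MonoidHom.range_eq_map, range_subtype]
  have hn : ∀ i, (H.lowerCentralSeries i).Normal := fun i => by
    induction i with
    | zero => rw [Subgroup.lowerCentralSeries_zero]; infer_instance
    | succ i ih => rw [Subgroup.lowerCentralSeries_succ]; exact commutator_normal _ _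
  haveI := hn m
  haveI := hn (m + 1)
  have hrel : U.relIndex T ≤ B := by
    rw [hT, hU, ← hTU, ← hTU, relIndex_map_map_of_injective _ _ H.subtype_injective]
    exact relIndex_le (hP.to_subgroup H) β hβp hfixH
  have hUT : U ≤ T := Subgroup.lowerCentralSeries_antitone _ (Nat.le_succ m)
  have hX := commIter_le_of_relIndex hUT hrel
  -- `U = [T, H] ≤ [T, _ (B + 1) P]`
  have hU' : U ≤ commIter T (B + 1) := by
    rw [hU, Subgroup.lowerCentralSeries_succ]
    exact commutator_gam_le_commIter B T inferInstance
  have hXbot : commIter T B = ⊥ := eq_bot_of_le_commutator (hX.trans hU')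
  have hUbot : U = ⊥ := le_bot_iff.mp (hU'.trans (by rw [← hXbot]; exact commIter_antitone T (Nat.le_succ B)))
  -- derived length
  have hd : ∀ t, derivedSeries P (B + t) ≤ H.lowerCentralSeries t := by
    intro t
    induction t with
    | zero => exact Subgroup.derived_le_lower_central B
    | succ t ih =>
      show ⁅derivedSeries P (B + t), derivedSeries P (B + t)⁆ ≤ _
      rw [Subgroup.lowerCentralSeries_succ]
      exact commutator_mono ih (ih.trans (lowerCentralSeries_le_self H t))
  exact le_bot_iff.mp ((hd (m + 1)).trans hUbot.le)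

end CfsgLib.AlperinBound
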